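import Mathlib.RingTheory.Regular.RegularSequence
import Mathlib.RingTheory.Nakayama
import Mathlib.RingTheory.Noetherian.Basic
import Mathlib.LinearAlgebra.Isomorphisms
import Groth.Prelude.Def_CInt

/-!
Weakly regular sequences and short exact sequences; vanishing of first Koszul homology.
-/

set_option autoImplicit false
universe u v

open scoped Pointwise
open RingTheory.Sequence Function

namespace Groth.Agent.CAlg9.RegSeq

variable {A : Type u} [CommRing A]

theorem mk_mem_smul_top_iff {M : Type v} [AddCommGroup M] [Module A M] (r : A) (rs : List A) (x : M) :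
    (Submodule.Quotient.mk x : QuotSMulTop r M) ∈ Ideal.ofList rs • (⊤ : Submodule A (QuotSMulTop r M)) ↔
      x ∈ Ideal.ofList (r :: rs) • (⊤ : Submodule A M) := by
  have h : Ideal.ofList rs • (⊤ : Submodule A (QuotSMulTop r M)) =
      (Ideal.ofList rs • (⊤ : Submodule A M)).map (r • (⊤ : Submodule A M)).mkQ := by
    rw [Submodule.map_smul'', Submodule.map_top, Submodule.range_mkQ]
  rw [h, Ideal.ofList_cons_smul, ← Submodule.comap_map_mkQ]
  rfl

theorem injective_map_of_regular {M' M M'' : Type v} [AddCommGroup M'] [Module A M']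
    [AddCommGroup M] [Module A M] [AddCommGroup M''] [Module A M''] {i : M' →ₗ[A] M} {p : M →ₗ[A] M''}
    (hi : Injective i) (hex : Exact i p) {r : A} (hr : IsSMulRegular M'' r) :
    Injective (QuotSMulTop.map r i) := by
  rw [injective_iff_map_eq_zero]
  intro x hx
  induction x using Submodule.Quotient.induction_on with | _ x
  rw [QuotSMulTop.map_apply_mk, Submodule.Quotient.mk_eq_zero,
    Submodule.mem_smul_pointwise_iff_exists] at hx
  obtain ⟨y, -, hy⟩ := hx
  have : p y = 0 := hr (by
    change r • p y = r • (0 : M'')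
    rw [← map_smul, hy, hex.apply_apply_eq_zero, smul_zero])
  obtain ⟨x', rfl⟩ := (hex y).mp this
  rw [← map_smul] at hy
  rw [Submodule.Quotient.mk_eq_zero, ← hi hy]
  exact Submodule.smul_mem_pointwise_smul _ _ _ trivial

/-- `0 → M' → M → M'' → 0`: regular on `M` and `M''` implies regular on `M'`. -/
theorem isWeaklyRegular_left (fs : List A) : ∀ {M' M M'' : Type v} [AddCommGroup M'] [Module A M']
    [AddCommGroup M] [Module A M] [AddCommGroup M''] [Module A M''] (i : M' →ₗ[A] M) (p : M →ₗ[A] M''),
    Injective i → Surjective p → Exact i p → IsWeaklyRegular M fs → IsWeaklyRegular M'' fs →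
    IsWeaklyRegular M' fs := by
  induction fs with
  | nil => intros; exact IsWeaklyRegular.nil A _
  | cons r rs ih =>
    intro M' M M'' _ _ _ _ _ _ i p hi hp hex hM hM''
    rw [isWeaklyRegular_cons_iff] at hM hM'' ⊢
    refine ⟨fun a b hab => hi (hM.1 ?_), ih (QuotSMulTop.map r i) (QuotSMulTop.map r p)
      (injective_map_of_regular hi hex hM''.1) (QuotSMulTop.map_surjective r hp)
      (QuotSMulTop.map_exact r hex hp) hM.2 hM''.2⟩
    show r • i a = r • i b
    rw [← map_smul, ← map_smul]
    exact congrArg i hab

/-- If the sequence is regular on the cokernel, the submodule meets `(fs) M` in `(fs) M'`. -/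
theorem mem_smul_top_of_regular (fs : List A) : ∀ {M' M M'' : Type v} [AddCommGroup M'] [Module A M']
    [AddCommGroup M] [Module A M] [AddCommGroup M''] [Module A M''] (i : M' →ₗ[A] M) (p : M →ₗ[A] M''),
    Injective i → Surjective p → Exact i p → IsWeaklyRegular M'' fs → ∀ x : M',
    i x ∈ Ideal.ofList fs • (⊤ : Submodule A M) → x ∈ Ideal.ofList fs • (⊤ : Submodule A M') := by
  induction fs with
  | nil =>
    intro M' M M'' _ _ _ _ _ _ i p hi _ _ _ x hx
    rw [Ideal.ofList_nil, Submodule.bot_smul, Submodule.mem_bot] at hx ⊢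
    exact hi (by rw [hx, map_zero])
  | cons r rs ih =>
    intro M' M M'' _ _ _ _ _ _ i p hi hp hex hM'' x hx
    rw [isWeaklyRegular_cons_iff] at hM''
    rw [← mk_mem_smul_top_iff] at hx ⊢
    refine ih (QuotSMulTop.map r i) (QuotSMulTop.map r p) (injective_map_of_regular hi hex hM''.1)
      (QuotSMulTop.map_surjective r hp) (QuotSMulTop.map_exact r hex hp) hM''.2 _ ?_
    rw [QuotSMulTop.map_apply_mk]
    exact hx

/-- Regular on `M` and `M'/(fs) → M/(fs)` injective implies regular on a finite `M''`. -/
theorem isWeaklyRegular_right [IsNoetherianRing A] (fs : List A) :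
    ∀ {M' M M'' : Type v} [AddCommGroup M'] [Module A M'] [AddCommGroup M] [Module A M]
      [AddCommGroup M''] [Module A M''] [Module.Finite A M''] (i : M' →ₗ[A] M) (p : M →ₗ[A] M''),
    Injective i → Surjective p → Exact i p → (∀ f ∈ fs, f ∈ (⊥ : Ideal A).jacobson) →
    IsWeaklyRegular M fs →
    (∀ x : M', i x ∈ Ideal.ofList fs • (⊤ : Submodule A M) → x ∈ Ideal.ofList fs • (⊤ : Submodule A M')) →
    IsWeaklyRegular M'' fs := by
  induction fs with
  | nil => intros; exact IsWeaklyRegular.nil A _
  | cons r rs ih =>
    intro M' M M'' _ _ _ _ _ _ _ i p hi hp hex hrad hM hinj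
    rw [isWeaklyRegular_cons_iff] at hM ⊢
    let ib := QuotSMulTop.map r i
    let pb := QuotSMulTop.map r p
    let T := LinearMap.range ib
    have hT : Exact T.subtype pb := fun y => by
      rw [QuotSMulTop.map_exact r hex hp y]
      exact ⟨fun ⟨z, hz⟩ => ⟨⟨y, z, hz⟩, rfl⟩, fun ⟨⟨_, z, hz⟩, hy⟩ => ⟨z, hz.trans hy⟩⟩
    have hrad' : ∀ f ∈ rs, f ∈ (⊥ : Ideal A).jacobson := fun f hf => hrad f (List.mem_cons_of_mem r hf)
    have hlow : IsWeaklyRegular (QuotSMulTop r M'') rs := by
      refine ih T.subtype pb T.injective_subtype (QuotSMulTop.map_surjective r hp) hT hrad' hM.2 ?_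
      rintro ⟨_, z, rfl⟩ hz
      induction z using Submodule.Quotient.induction_on with | _ z
      replace hz : (Submodule.Quotient.mk (i z) : QuotSMulTop r M) ∈
          Ideal.ofList rs • (⊤ : Submodule A (QuotSMulTop r M)) := hz
      rw [mk_mem_smul_top_iff] at hz
      have h2 := (mk_mem_smul_top_iff r rs z).2 (hinj z hz)
      have h3 := Submodule.mem_map_of_mem (f := ib.rangeRestrict) h2
      rw [Submodule.map_smul''] at h3
      exact Submodule.smul_mono (le_refl (Ideal.ofList rs)) (le_top : _ ≤ (⊤ : Submodule A T)) h3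
    refine ⟨?_, hlow⟩
    -- the torsion of `M''` is the kernel of `M'/r → M/r`
    have hTreg : IsWeaklyRegular T rs :=
      isWeaklyRegular_left rs T.subtype pb T.injective_subtype (QuotSMulTop.map_surjective r hp) hT hM.2 hlow
    let K := LinearMap.ker ib.rangeRestrict
    have hK : ∀ k : K, k ∈ Ideal.ofList rs • (⊤ : Submodule A K) := fun k => by
      refine mem_smul_top_of_regular rs K.subtype ib.rangeRestrict K.injective_subtype
        ib.surjective_rangeRestrict (LinearMap.exact_subtype_ker_map _) hTreg k ?_
      obtain ⟨z, hz⟩ := Submodule.Quotient.mk_surjective _ k.1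
      have h0 : ib k.1 = 0 := congrArg Subtype.val (LinearMap.mem_ker.1 k.2)
      show k.1 ∈ _
      rw [← hz] at h0 ⊢
      rw [QuotSMulTop.map_apply_mk, Submodule.Quotient.mk_eq_zero,
        Submodule.mem_smul_pointwise_iff_exists] at h0
      obtain ⟨y, -, hy⟩ := h0
      refine (mk_mem_smul_top_iff r rs z).2 (hinj z ?_)
      rw [← hy, Ideal.ofList_cons_smul]
      exact Submodule.mem_sup_left (Submodule.smul_mem_pointwise_smul _ _ _ trivial)
    -- the connecting map from the torsion onto `K`
    let W := LinearMap.ker (LinearMap.lsmul A M'' r)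
    have hsmall : W ≤ Ideal.ofList rs • W := fun w hw => by
      have hwr : r • w = 0 := hw
      obtain ⟨x, rfl⟩ := hp w
      obtain ⟨y, hy⟩ := (hex (r • x)).1 (by rw [map_smul]; exact hwr)
      have hk : (Submodule.Quotient.mk y : QuotSMulTop r M') ∈ K := by
        refine LinearMap.mem_ker.2 (Subtype.ext ?_)
        show ib _ = 0
        rw [QuotSMulTop.map_apply_mk, Submodule.Quotient.mk_eq_zero, hy]
        exact Submodule.smul_mem_pointwise_smul _ _ _ trivial
      have hmem := hK ⟨_, hk⟩
      -- transport along `K → M''`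
      let W' : Submodule A M := (LinearMap.range i).comap (LinearMap.lsmul A M r)
      let δ : W' →ₗ[A] QuotSMulTop r M' :=
        (r • (⊤ : Submodule A M')).mkQ ∘ₗ
          ((LinearEquiv.ofInjective i hi).symm.toLinearMap ∘ₗ
            LinearMap.codRestrict (LinearMap.range i) ((LinearMap.lsmul A M r) ∘ₗ W'.subtype) (fun v => v.2))
      have hδ : ∀ (v : W') (y' : M'), i y' = r • v.1 → δ v = Submodule.Quotient.mk y' := fun v y' h => by
        show Submodule.Quotient.mk _ = Submodule.Quotient.mk y'
        congr 1
        exact (LinearEquiv.ofInjective i hi).symm_apply_eq.2 (Subtype.ext h.symm)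
      have hrange : LinearMap.range δ = K := by
        refine le_antisymm ?_ fun k hk' => ?_
        · rintro _ ⟨v, rfl⟩
          obtain ⟨y', hy'⟩ := v.2
          rw [hδ v y' hy']
          refine LinearMap.mem_ker.2 (Subtype.ext ?_)
          show ib _ = 0
          rw [QuotSMulTop.map_apply_mk, Submodule.Quotient.mk_eq_zero, hy']
          exact Submodule.smul_mem_pointwise_smul _ _ _ trivial
        · obtain ⟨z, rfl⟩ := Submodule.Quotient.mk_surjective _ k
          have h0 : ib (Submodule.Quotient.mk z) = 0 := congrArg Subtype.val (LinearMap.mem_ker.1 hk')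
          rw [QuotSMulTop.map_apply_mk, Submodule.Quotient.mk_eq_zero,
            Submodule.mem_smul_pointwise_iff_exists] at h0
          obtain ⟨v, -, hv⟩ := h0
          exact ⟨⟨v, z, hv.symm⟩, hδ _ z hv.symm⟩
      have h4 : (Submodule.Quotient.mk y : QuotSMulTop r M') ∈ Ideal.ofList rs • LinearMap.range δ := by
        have h := Submodule.mem_map_of_mem (f := K.subtype) hmem
        rw [Submodule.map_smul'', Submodule.map_top, Submodule.range_subtype] at h
        rw [hrange]
        exact h
      rw [← Submodule.map_top, ← Submodule.map_smul''] at h4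
      obtain ⟨v, hv, hvy⟩ := h4
      -- `δ (x - v) = 0`, so `x - v` maps to zero in `M''`
      have hx : x ∈ W' := ⟨y, hy⟩
      have hd : δ (⟨x, hx⟩ - v) = 0 := by rw [map_sub, hδ ⟨x, hx⟩ y hy, hvy]; exact sub_self _
      obtain ⟨y', hy'⟩ := (⟨x, hx⟩ - v : W').2
      rw [hδ _ y' hy', Submodule.Quotient.mk_eq_zero, Submodule.mem_smul_pointwise_iff_exists] at hd
      obtain ⟨u', -, hu'⟩ := hd
      have he : r • i u' = r • (x - v.1) := by rw [← map_smul, hu']; exact hy'
      have hxv : p x = p v.1 := by
        have := congrArg p (hM.1 he)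
        rw [hex.apply_apply_eq_zero, map_sub] at this
        exact sub_eq_zero.1 this.symm
      rw [hxv]
      let q : W' →ₗ[A] M'' := p ∘ₗ W'.subtype
      have hq : LinearMap.range q ≤ W := by
        rintro _ ⟨v, rfl⟩
        obtain ⟨y', hy'⟩ := v.2
        show r • p v.1 = 0
        rw [← map_smul, ← show i y' = r • v.1 from hy', hex.apply_apply_eq_zero]
      have h5 := Submodule.mem_map_of_mem (f := q) hv
      rw [Submodule.map_smul'', Submodule.map_top] at h5
      exact Submodule.smul_mono le_rfl hq h5
    have hbot : W = ⊥ := by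
      refine Submodule.eq_bot_of_le_smul_of_le_jacobson_bot (Ideal.ofList rs) W (IsNoetherian.noetherian W) hsmall ?_
      exact Ideal.span_le.2 fun f hf => hrad' f hf
    rw [isSMulRegular_iff_right_eq_zero_of_smul]
    intro w hw
    have : w ∈ W := hw
    rwa [hbot, Submodule.mem_bot] at this

/-- Vanishing of the first Koszul homology gives a weakly regular sequence. -/
theorem isWeaklyRegular_of_koszulH1Zero [IsNoetherianRing A] : ∀ {n : ℕ} (f : Fin n → A),
    (∀ i, f i ∈ (⊥ : Ideal A).jacobson) → ∀ (M : Type v) [AddCommGroup M] [Module A M] [Module.Finite A M],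
    CInt.KoszulH1Zero f M → IsWeaklyRegular M (List.ofFn f) := by
  intro n
  induction n with
  | zero => intro f _ M _ _ _ _; rw [List.ofFn_zero]; exact IsWeaklyRegular.nil A M
  | succ n ih =>
    intro f hrad M _ _ _ h
    let f' : Fin n → A := fun i => f i.castSucc
    let a := f (Fin.last n)
    let S : Submodule A (Fin n → M) := Submodule.span A {v | ∃ (i j : Fin n) (x : M),
      v = f' j • (Pi.single i x : Fin n → M) - f' i • (Pi.single j x : Fin n → M)}
    let φ : (Fin n → M) →ₗ[A] M := ∑ i, f' i • LinearMap.proj i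
    have hφ : ∀ m, φ m = ∑ i, f' i • m i := fun m => by simp [φ, LinearMap.sum_apply]
    let ψ : (Fin (n + 1) → M) →ₗ[A] (Fin n → M) := LinearMap.funLeft A M Fin.castSucc
    -- every trivial relation restricts to `S + a • (everything)` and has last entry in `(f') M`
    have key : ∀ m ∈ Submodule.span A {v | ∃ (i j : Fin (n + 1)) (x : M),
        v = f j • (Pi.single i x : Fin (n + 1) → M) - f i • (Pi.single j x : Fin (n + 1) → M)},
        ∃ (s : Fin n → M) (z : Fin n → M), s ∈ S ∧ ψ m = s + a • z ∧ m (Fin.last n) = - φ z := by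
      intro m hm
      induction hm using Submodule.span_induction with
      | zero => exact ⟨0, 0, zero_mem _, by simp, by simp⟩
      | add u w _ _ hu hw =>
        obtain ⟨s, z, hs, h1, h2⟩ := hu
        obtain ⟨s', z', hs', h1', h2'⟩ := hw
        exact ⟨s + s', z + z', add_mem hs hs', by rw [map_add, h1, h1', smul_add]; abel,
          by rw [Pi.add_apply, h2, h2', map_add, neg_add]⟩
      | smul c u _ hu =>
        obtain ⟨s, z, hs, h1, h2⟩ := hu
        exact ⟨c • s, c • z, S.smul_mem c hs, by rw [map_smul, h1, smul_add, smul_comm c a],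
          by rw [Pi.smul_apply, h2, map_smul, smul_neg]⟩
      | mem v hv =>
        obtain ⟨i, j, x, rfl⟩ := hv
        have hs : ∀ (i : Fin n) (x : M), ψ (Pi.single i.castSucc x) = Pi.single i x := fun i x => by
          funext l
          by_cases hl : l = i
          · subst hl; simp [ψ]
          · simp [ψ, Pi.single_eq_of_ne hl, Pi.single_eq_of_ne (fun e => hl (Fin.castSucc_injective _ e))]
        have hl : ∀ (x : M), ψ (Pi.single (Fin.last n) x) = 0 := fun x => by
          funext l; simp [ψ, Pi.single_eq_of_ne (Fin.castSucc_ne_last l)]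
        have hsl : ∀ (i : Fin n) (x : M), (Pi.single i.castSucc x : Fin (n + 1) → M) (Fin.last n) = 0 :=
          fun i x => Pi.single_eq_of_ne (Fin.castSucc_ne_last i).symm (M := fun _ => M) x
        have hφs : ∀ (i : Fin n) (x : M), φ (Pi.single i x) = f' i • x := fun i x => by
          rw [hφ, Finset.sum_eq_single i (fun l _ hl => by rw [Pi.single_eq_of_ne hl, smul_zero]) (by simp),
            Pi.single_eq_same]
        induction i using Fin.lastCases with
        | last =>
          induction j using Fin.lastCases with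
          | last => exact ⟨0, 0, zero_mem _, by simp, by simp⟩
          | cast j =>
            refine ⟨0, - Pi.single j x, zero_mem _, ?_, ?_⟩
            · rw [map_sub, map_smul, map_smul, hl, hs, smul_zero, zero_sub, zero_add, smul_neg]
            · simp only [Pi.sub_apply, Pi.smul_apply, Pi.single_eq_same, hsl, smul_zero, sub_zero,
                map_neg, neg_neg, hφs, f']
        | cast i =>
          induction j using Fin.lastCases with
          | last =>
            refine ⟨0, Pi.single i x, zero_mem _, ?_, ?_⟩
            · rw [map_sub, map_smul, map_smul, hs, hl, smul_zero, sub_zero, zero_add]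
            · simp only [Pi.sub_apply, Pi.smul_apply, Pi.single_eq_same, hsl, smul_zero, zero_sub, hφs, f']
          | cast j =>
            refine ⟨_, 0, Submodule.subset_span ⟨i, j, x, rfl⟩, ?_, ?_⟩
            · rw [map_sub, map_smul, map_smul, hs, hs, smul_zero, add_zero]
            · simp only [Pi.sub_apply, Pi.smul_apply, hsl, smul_zero, sub_self, map_zero, neg_zero]
    have hS0 : S ≤ LinearMap.ker φ := by
      refine Submodule.span_le.2 ?_
      rintro _ ⟨i, j, x, rfl⟩
      have hφs : ∀ (i : Fin n) (x : M), φ (Pi.single i x) = f' i • x := fun i x => by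
        rw [hφ, Finset.sum_eq_single i (fun l _ hl => by rw [Pi.single_eq_of_ne hl, smul_zero]) (by simp),
          Pi.single_eq_same]
      show φ _ = 0
      rw [map_sub, map_smul, map_smul, hφs, hφs, smul_comm, sub_self]
    have hH' : CInt.KoszulH1Zero f' M := by
      have hle : LinearMap.ker φ ≤ S ⊔ Ideal.span {a} • LinearMap.ker φ := fun m hm => by
        let m' : Fin (n + 1) → M := Fin.snoc m 0
        have hrel : ∑ i, f i • m' i = 0 := by
          rw [Fin.sum_univ_castSucc]
          simp only [m', Fin.snoc_castSucc, Fin.snoc_last, smul_zero, add_zero]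
          rw [← hm, hφ]
        obtain ⟨s, z, hs, h1, h2⟩ := key m' (h m' hrel)
        have hψ : ψ m' = m := funext fun l => by simp [ψ, m']
        have hz : z ∈ LinearMap.ker φ := by
          simp only [m', Fin.snoc_last] at h2
          exact LinearMap.mem_ker.2 (neg_eq_zero.1 h2.symm)
        rw [← hψ, h1, Submodule.mem_sup]
        exact ⟨s, hs, a • z, Submodule.smul_mem_smul (Ideal.mem_span_singleton_self a) hz, rfl⟩
      have hle' := Submodule.le_of_le_smul_of_le_jacobson_bot (IsNoetherian.noetherian _)
        ((Ideal.span_singleton_le_iff_mem _).2 (hrad (Fin.last n))) hle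
      intro m hm
      exact hle' (LinearMap.mem_ker.2 (by rw [hφ]; exact hm))
    rw [List.ofFn_succ_last, isWeaklyRegular_append_iff]
    refine ⟨ih f' (fun i => hrad _) M hH', ?_⟩
    rw [isWeaklyRegular_cons_iff, and_iff_left (IsWeaklyRegular.nil A _),
      isSMulRegular_iff_right_eq_zero_of_smul]
    intro w hw
    obtain ⟨x, rfl⟩ := Submodule.Quotient.mk_surjective _ w
    rw [← Submodule.Quotient.mk_smul, Submodule.Quotient.mk_eq_zero] at hw
    have hrange : (Ideal.ofList (List.ofFn f') • (⊤ : Submodule A M)) = LinearMap.range φ := by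
      refine le_antisymm ?_ ?_
      · rw [Submodule.smul_le]
        intro c hc y _
        rw [Ideal.ofList, show {r | r ∈ List.ofFn f'} = Set.range f' from Set.ext fun r => List.mem_ofFn' f' r,
          Ideal.mem_span_range_iff_exists_fun] at hc
        obtain ⟨d, rfl⟩ := hc
        exact ⟨fun l => d l • y, by simp [hφ, Finset.sum_smul, smul_smul, mul_comm]⟩
      · rintro _ ⟨m, rfl⟩
        rw [hφ]
        exact Submodule.sum_mem _ fun l _ => Submodule.smul_mem_smul
          (Ideal.subset_span (List.mem_ofFn.2 ⟨l, rfl⟩)) trivial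
    rw [Submodule.Quotient.mk_eq_zero]
    change a • x ∈ Ideal.ofList (List.ofFn f') • (⊤ : Submodule A M) at hw
    show x ∈ Ideal.ofList (List.ofFn f') • (⊤ : Submodule A M)
    rw [hrange] at hw ⊢
    obtain ⟨m, hm⟩ := hw
    let m' : Fin (n + 1) → M := Fin.snoc m (-x)
    have hrel : ∑ i, f i • m' i = 0 := by
      rw [Fin.sum_univ_castSucc]
      simp only [m', Fin.snoc_castSucc, Fin.snoc_last, smul_neg]
      rw [← hφ, hm, add_neg_cancel]
    obtain ⟨s, z, -, -, h2⟩ := key m' (h m' hrel)
    simp only [m', Fin.snoc_last, neg_inj] at h2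
    exact ⟨z, h2.symm⟩

end Groth.Agent.CAlg9.RegSeq
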