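import Groth.Agent.CAlg9.RegSeq.Exact
import Groth.Agent.S0611
import Groth.Agent.S5033
import Mathlib.Algebra.Module.SpanRankOperations
import Mathlib.LinearAlgebra.LinearIndependent.Lemmas
import Mathlib.RingTheory.RegularLocalRing.Defs
import Mathlib.Data.Fin.Tuple.Basic
import Mathlib.RingTheory.KrullDimension.Regular

/-!
Regular ideals in Noetherian local rings: sub-ideals and quotients.
-/

set_option autoImplicit false
universe u

open IsLocalRing RingTheory.Sequence

namespace Groth.Agent.CAlg9.RegSeq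

variable {A : Type u} [CommRing A]

theorem ofList_ofFn {n : ℕ} (f : Fin n → A) : Ideal.ofList (List.ofFn f) = Ideal.span (Set.range f) := by
  rw [Ideal.ofList]
  congr 1
  exact Set.ext fun r => List.mem_ofFn' f r

theorem not_mem_of_isRegular {rs : List A} (h : IsRegular A rs) : (0 : A) ∉ rs := by
  intro h0
  obtain ⟨l₁, l₂, rfl⟩ := List.append_of_mem h0
  have h1 := ((isWeaklyRegular_append_iff A l₁ (0 :: l₂)).1 h.1).2
  rw [isWeaklyRegular_cons_iff] at h1
  have hsub : Subsingleton (A ⧸ (Ideal.ofList l₁ • ⊤ : Submodule A A)) :=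
    ⟨fun a b => h1.1 (by simp)⟩
  rw [Submodule.Quotient.subsingleton_iff] at hsub
  refine h.2 (le_antisymm ?_ le_top)
  exact hsub.ge.trans (Submodule.smul_mono (by rw [Ideal.ofList_append]; exact le_sup_left) le_rfl)

variable [IsLocalRing A] [IsNoetherianRing A]

/-- A generating family of minimal size has no relation outside the maximal ideal. -/
theorem coeff_mem_of_minimal {K : Ideal A} {n : ℕ} (g : Fin n → A)
    (hg : Ideal.span (Set.range g) = K) (hn : n ≤ K.spanFinrank) (c : Fin n → A)
    (hc : ∑ i, c i * g i ∈ maximalIdeal A * K) (i : Fin n) : c i ∈ maximalIdeal A := by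
  classical
  by_contra hu
  obtain ⟨u, hu⟩ := (notMem_maximalIdeal.1 hu)
  let G := Ideal.span ((fun l => g l) '' ↑(Finset.univ.erase i))
  have hsum : c i * g i = ∑ l, c l * g l - ∑ l ∈ Finset.univ.erase i, c l * g l := by
    rw [← Finset.add_sum_erase _ _ (Finset.mem_univ i)]; ring
  have hgi : g i ∈ G ⊔ maximalIdeal A • K := by
    have h1 : c i * g i ∈ G ⊔ maximalIdeal A • K := by
      rw [hsum]
      exact sub_mem (Submodule.mem_sup_right hc) (Submodule.mem_sup_left
        (sum_mem fun l hl => G.mul_mem_left _ (Ideal.subset_span ⟨l, hl, rfl⟩)))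
    rw [← hu] at h1
    simpa [← mul_assoc] using Ideal.mul_mem_left _ (↑u⁻¹ : A) h1
  have hK : K ≤ G ⊔ maximalIdeal A • K := by
    conv_lhs => rw [← hg]
    rw [Ideal.span_le]
    rintro _ ⟨l, rfl⟩
    by_cases hl : l = i
    · exact hl ▸ hgi
    · exact Submodule.mem_sup_left (Ideal.subset_span ⟨l, by simpa using hl, rfl⟩)
  have hK' := Submodule.le_of_le_smul_of_le_jacobson_bot (IsNoetherian.noetherian K)
    (maximalIdeal_le_jacobson ⊥) hK
  have hGK : G = K := le_antisymm (by
    rw [← hg]; exact Ideal.span_mono (Set.image_subset_range _ _)) hK'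
  have h2 := Submodule.spanFinrank_span_le_ncard_of_finite (R := A)
    ((Finset.univ.erase i).finite_toSet.image (fun l => g l))
  rw [show Submodule.span A ((fun l => g l) '' ↑(Finset.univ.erase i)) = K from hGK] at h2
  have h3 := Set.ncard_image_le (f := fun l => g l) (Finset.univ.erase i).finite_toSet
  rw [Set.ncard_coe_finset, Finset.card_erase_of_mem (Finset.mem_univ i), Finset.card_univ, Fintype.card_fin] at h3
  have := i.pos
  omega

/-- A regular sequence generates minimally. -/
theorem spanFinrank_eq {n : ℕ} (a : Fin n → A) (ha : IsRegular A (List.ofFn a)) :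
    (Ideal.span (Set.range a)).spanFinrank = n := by
  refine le_antisymm ((Submodule.spanFinrank_span_le_ncard_of_finite (Set.finite_range a)).trans ?_) ?_
  · rw [← Nat.card_coe_set_eq]
    exact (Finite.card_range_le a).trans_eq (Nat.card_fin n)
  · by_contra hlt
    rw [not_le] at hlt
    obtain ⟨s, hs, hspan⟩ := (Submodule.fg_iff_exists_fin_generating_family.1
      (IsNoetherian.noetherian (Ideal.span (Set.range a)))) |> fun _ =>
        (IsNoetherian.noetherian (Ideal.span (Set.range a))).exists_span_set_encard_eq_spanFinrank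
    have hfin : s.Finite := Set.finite_of_encard_eq_coe hs
    have hcard : hfin.toFinset.card < n := by
      have := hfin.encard_eq_coe_toFinset_card
      rw [hs] at this
      have h' : (Ideal.span (Set.range a)).spanFinrank = hfin.toFinset.card := by exact_mod_cast this
      omega
    let b : Fin n → A := fun i =>
      if h : (i : ℕ) < hfin.toFinset.card then (hfin.toFinset.equivFin.symm ⟨i, h⟩).1 else 0
    have hb : Ideal.span (Set.range a) = Ideal.span (Set.range b) := by
      refine le_antisymm ?_ (Ideal.span_le.2 ?_)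
      · rw [← hspan]
        refine Ideal.span_le.2 fun x hx => Ideal.subset_span ?_
        let j := hfin.toFinset.equivFin ⟨x, hfin.mem_toFinset.2 hx⟩
        exact ⟨⟨j, by omega⟩, by simp [b, j]⟩
      · rintro _ ⟨i, rfl⟩
        simp only [b]
        split_ifs with h
        · rw [← hspan]
          exact Ideal.subset_span (hfin.mem_toFinset.1 (hfin.toFinset.equivFin.symm ⟨i, h⟩).2)
        · exact zero_mem _
    refine not_mem_of_isRegular (S0611.result a b ha hb) (List.mem_ofFn.2 ⟨⟨hfin.toFinset.card, hcard⟩, ?_⟩)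
    simp [b]

/-- Generators of a regular ideal of minimal number form a regular sequence. -/
theorem isRegular_of_minimal {K : Ideal A} (hK : CInt.IsRegularIdeal K) {n : ℕ} (b : Fin n → A)
    (hb : Ideal.span (Set.range b) = K) (hn : n = K.spanFinrank) : IsRegular A (List.ofFn b) := by
  obtain ⟨rs, hrs, rfl⟩ := hK
  have hl : List.ofFn rs.get = rs := List.ofFn_get rs
  have he : Ideal.span (Set.range rs.get) = Ideal.ofList rs := by rw [← ofList_ofFn, hl]
  have := spanFinrank_eq rs.get (hl.symm ▸ hrs)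
  rw [he] at this
  obtain rfl : n = rs.length := hn.trans this
  exact S0611.result rs.get b (hl.symm ▸ hrs) (he.trans hb.symm)

/-- Completing independent elements to a minimal generating family with elements of `J`. -/
theorem extend_minimal (K J : Ideal A) (hJ : J ≤ K) {q : ℕ} (g : Fin q → A) (hgK : ∀ i, g i ∈ K)
    (hgen : K ≤ J ⊔ Ideal.span (Set.range g))
    (hind : ∀ c : Fin q → A, ∑ i, c i * g i ∈ maximalIdeal A * K → ∀ i, c i ∈ maximalIdeal A) :
    ∃ (r : ℕ) (h : Fin r → A), (∀ i, h i ∈ J) ∧ Ideal.span (Set.range (Fin.append h g)) = K ∧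
      r + q = K.spanFinrank := by
  classical
  let mK : Submodule A K := maximalIdeal A • ⊤
  let V := (K : Submodule A A) ⧸ mK
  let v : Fin q ⊕ J → V := Sum.elim (fun i => Submodule.Quotient.mk ⟨g i, hgK i⟩)
    (fun x => Submodule.Quotient.mk ⟨x.1, hJ x.2⟩)
  have hmK : ∀ x : K, x ∈ mK ↔ x.1 ∈ maximalIdeal A * K := fun x => by
    rw [show x ∈ mK ↔ x.1 ∈ mK.map K.subtype from
        ⟨fun h => ⟨x, h, rfl⟩, fun ⟨y, hy, e⟩ => Subtype.ext e ▸ hy⟩,
      Submodule.map_smul'', Submodule.map_top, Submodule.range_subtype, Ideal.smul_eq_mul]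
  let : Field (A ⧸ maximalIdeal A) := Ideal.Quotient.field _
  have hs : LinearIndepOn (A ⧸ maximalIdeal A) v (Set.range Sum.inl) := by
    rw [linearIndepOn_range_iff Sum.inl_injective, Fintype.linearIndependent_iff]
    intro c hc i
    choose d hd using fun l => Ideal.Quotient.mk_surjective (c l)
    rw [← hd]
    refine Ideal.Quotient.eq_zero_iff_mem.2 (hind d ?_ i)
    have h0 : (Submodule.Quotient.mk (∑ l, d l • (⟨g l, hgK l⟩ : K)) : V) = 0 := by
      rw [← hc, ← Submodule.mkQ_apply, map_sum]
      refine Finset.sum_congr rfl fun l _ => ?_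
      rw [map_smul, ← hd]
      exact (Module.IsTorsionBySet.mk_smul _ _ _).symm
    rw [Submodule.Quotient.mk_eq_zero, hmK] at h0
    simpa using h0
  have hsmul : ∀ (a : A) (z : V), a • z = Ideal.Quotient.mk (maximalIdeal A) a • z := fun a z => rfl
  obtain ⟨b, -, hsb, hspan, hli⟩ := exists_linearIndepOn_extension hs (Set.subset_univ _)
  have hV : K.spanFinrank = Module.finrank (A ⧸ maximalIdeal A) V :=
    IsLocalRing.spanFinrank_eq_finrank_quotient K (IsNoetherian.noetherian K)
  have : Module.Finite (A ⧸ maximalIdeal A) V := Module.Finite.of_restrictScalars_finite A _ _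
  have hbfin : b.Finite := Set.finite_coe_iff.1 hli.linearIndependent.finite
  let bJ : Set J := Sum.inr ⁻¹' b
  have hbJ : bJ.Finite := hbfin.preimage Sum.inr_injective.injOn
  let r := hbJ.toFinset.card
  let h : Fin r → A := fun i => (hbJ.toFinset.equivFin.symm i).1.1
  have hmemh : ∀ i, h i ∈ J := fun i => (hbJ.toFinset.equivFin.symm i).1.2
  have hG : Ideal.span (Set.range (Fin.append h g)) ≤ K := by
    rw [Ideal.span_le]
    rintro _ ⟨i, rfl⟩
    induction i using Fin.addCases with
    | left i => rw [Fin.append_left]; exact hJ (hmemh i)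
    | right i => rw [Fin.append_right]; exact hgK i
  refine ⟨r, h, hmemh, le_antisymm hG ?_, ?_⟩
  · refine Submodule.le_of_le_smul_of_le_jacobson_bot (IsNoetherian.noetherian K)
      (maximalIdeal_le_jacobson ⊥) ?_
    have hgenV : ∀ y : K, (Submodule.Quotient.mk y : V) ∈
        Submodule.span A (v '' b) := fun y => by
      have htop : Submodule.span (A ⧸ maximalIdeal A) (v '' b) = ⊤ := by
        refine top_le_iff.1 fun z _ => ?_
        obtain ⟨y, rfl⟩ := Submodule.Quotient.mk_surjective _ z
        obtain ⟨j, hj, w, hw, e⟩ := Submodule.mem_sup.1 (hgen y.2)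
        obtain ⟨c, rfl⟩ := Ideal.mem_span_range_iff_exists_fun.1 hw
        have : y = (⟨j, hJ hj⟩ : K) + ∑ l, c l • (⟨g l, hgK l⟩ : K) :=
          Subtype.ext (by simp [← e])
        rw [this, Submodule.Quotient.mk_add, ← Submodule.mkQ_apply, ← Submodule.mkQ_apply, map_sum]
        refine add_mem (hspan ⟨Sum.inr ⟨j, hj⟩, trivial, rfl⟩) (sum_mem fun l _ => ?_)
        rw [map_smul, hsmul]
        exact Submodule.smul_mem _ _ (hspan ⟨Sum.inl l, trivial, rfl⟩)
      rw [← Submodule.mem_toAddSubgroup]
      have := Submodule.restrictScalars_span A (A ⧸ maximalIdeal A) Ideal.Quotient.mk_surjective (v '' b)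
      rw [← this, htop]
      trivial
    intro y hy
    have h1 : (Submodule.Quotient.mk (⟨y, hy⟩ : K) : V) ∈
        ((Submodule.span A (Set.range (Fin.append h g))).comap K.subtype).map mK.mkQ := by
      refine Submodule.span_le.2 ?_ (hgenV ⟨y, hy⟩)
      rintro _ ⟨z, hz, rfl⟩
      cases z with
      | inl l => exact ⟨⟨g l, hgK l⟩, Submodule.subset_span ⟨Fin.natAdd r l, Fin.append_right h g l⟩, rfl⟩
      | inr x =>
        refine ⟨⟨x.1, hJ x.2⟩, Submodule.subset_span ⟨Fin.castAdd q (hbJ.toFinset.equivFin ⟨x, hbJ.mem_toFinset.2 hz⟩), ?_⟩, rfl⟩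
        rw [Fin.append_left]
        simp [h]
    obtain ⟨z, hz, hzy⟩ := h1
    have h2 : (⟨y, hy⟩ : K) - z ∈ mK := (Submodule.Quotient.eq _).1 hzy.symm
    rw [hmK] at h2
    exact Submodule.mem_sup.2 ⟨z.1, hz, y - z.1, h2, add_sub_cancel _ _⟩
  · rw [hV]
    have hspanb : Submodule.span (A ⧸ maximalIdeal A) (Set.range fun x : b => v x) = ⊤ := by
      refine top_le_iff.1 fun z _ => ?_
      obtain ⟨y, rfl⟩ := Submodule.Quotient.mk_surjective _ z
      obtain ⟨j, hj, w, hw, e⟩ := Submodule.mem_sup.1 (hgen y.2)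
      obtain ⟨c, rfl⟩ := Ideal.mem_span_range_iff_exists_fun.1 hw
      have : y = (⟨j, hJ hj⟩ : K) + ∑ l, c l • (⟨g l, hgK l⟩ : K) := Subtype.ext (by simp [← e])
      rw [this, Submodule.Quotient.mk_add, ← Submodule.mkQ_apply, ← Submodule.mkQ_apply, map_sum,
        show (Set.range fun x : b => v x) = v '' b from Set.range_restrict v b ▸ rfl]
      refine add_mem (hspan ⟨Sum.inr ⟨j, hj⟩, trivial, rfl⟩) (sum_mem fun l _ => ?_)
      rw [map_smul, hsmul]
      exact Submodule.smul_mem _ _ (hspan ⟨Sum.inl l, trivial, rfl⟩)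
    have := hbfin.fintype
    rw [Module.finrank_eq_card_basis (Module.Basis.mk hli.linearIndependent hspanb.ge)]
    have hsplit : hbfin.toFinset = (Finset.univ : Finset (Fin q)).map ⟨Sum.inl, Sum.inl_injective⟩ ∪
        hbJ.toFinset.map ⟨Sum.inr, Sum.inr_injective⟩ := by
      ext z
      cases z with
      | inl l => simpa using hsb ⟨l, rfl⟩
      | inr x => simp [bJ]
    rw [← Set.toFinset_card, ← hbfin.toFinset_eq_toFinset, hsplit,
      Finset.card_union_of_disjoint (by simp [Finset.disjoint_left]), Finset.card_map, Finset.card_map,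
      Finset.card_univ, Fintype.card_fin]
    omega

theorem ne_top_of_le_maximal {I : Ideal A} (h : I ≤ maximalIdeal A) : I ≠ ⊤ := fun e =>
  (maximalIdeal.isMaximal A).ne_top (top_le_iff.1 (e ▸ h))

/-- If the images of `gs` are regular on `B/c` and `c ≤ (gs)`, then `c = 0`. -/
theorem eq_bot_of_le_ofList (gs : List A) (hm : ∀ g ∈ gs, g ∈ maximalIdeal A) (c : Ideal A)
    (hc : c ≤ Ideal.ofList gs) (hreg : IsWeaklyRegular (A ⧸ c) (gs.map (Ideal.Quotient.mk c))) : c = ⊥ := by
  have hreg' : IsWeaklyRegular (A ⧸ c) gs := by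
    rw [← isWeaklyRegular_map_algebraMap_iff (A ⧸ c)]; exact hreg
  refine Submodule.eq_bot_of_le_smul_of_le_jacobson_bot (Ideal.ofList gs) c (IsNoetherian.noetherian c) ?_
    ((Ideal.span_le.2 hm).trans (maximalIdeal_le_jacobson ⊥))
  intro x hx
  have h := mem_smul_top_of_regular gs c.subtype (Submodule.mkQ c) c.injective_subtype
    (Submodule.mkQ_surjective c) (LinearMap.exact_subtype_mkQ c) hreg' ⟨x, hx⟩
    (by rw [Ideal.smul_eq_mul, Ideal.mul_top]; exact hc hx)
  have h' := Submodule.mem_map_of_mem (f := c.subtype) h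
  rw [Submodule.map_smul'', Submodule.map_top, Submodule.range_subtype] at h'
  exact h'

/-- `J` regular and `K/J` regular give `K` regular. -/
theorem regular_of_quotient (J K : Ideal A) (hJK : J ≤ K) (hK : K ≤ maximalIdeal A)
    (hJ : CInt.IsRegularIdeal J) (hKJ : CInt.IsRegularIdeal (K.map (Ideal.Quotient.mk J))) :
    CInt.IsRegularIdeal K := by
  obtain ⟨rs, hrs, rfl⟩ := hJ
  obtain ⟨ss, hss, hssK⟩ := hKJ
  obtain ⟨gs, rfl⟩ := List.map_surjective_iff.2 Ideal.Quotient.mk_surjective ss
  have hKeq : Ideal.ofList (rs ++ gs) = K := by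
    rw [← Ideal.map_ofList] at hssK
    have := congrArg (Ideal.comap (Ideal.Quotient.mk (Ideal.ofList rs))) hssK
    rw [Ideal.comap_map_of_surjective _ Ideal.Quotient.mk_surjective,
      Ideal.comap_map_of_surjective _ Ideal.Quotient.mk_surjective, ← RingHom.ker_eq_comap_bot,
      Ideal.mk_ker, sup_eq_left.2 hJK] at this
    rw [Ideal.ofList_append, sup_comm, this]
  refine ⟨rs ++ gs, ⟨(isWeaklyRegular_append_iff A rs gs).2 ⟨hrs.1, ?_⟩, ?_⟩, hKeq⟩
  · have h1 : IsWeaklyRegular (A ⧸ Ideal.ofList rs) gs := by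
      rw [← isWeaklyRegular_map_algebraMap_iff (A ⧸ Ideal.ofList rs)]; exact hss.1
    exact (LinearEquiv.isWeaklyRegular_congr (Submodule.quotEquivOfEq _ _
      (by rw [Ideal.smul_eq_mul, Ideal.mul_top])) gs).2 h1
  · rw [hKeq, Ideal.smul_eq_mul, Ideal.mul_top]
    exact (ne_top_of_le_maximal hK).symm

/-- The images of the last part of a regular sequence. -/
theorem regular_append_right {r q : ℕ} (h : Fin r → A) (g : Fin q → A)
    (hreg : IsRegular A (List.ofFn (Fin.append h g))) :
    IsWeaklyRegular A (List.ofFn h) ∧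
    IsWeaklyRegular (A ⧸ Ideal.span (Set.range h))
      ((List.ofFn g).map (Ideal.Quotient.mk (Ideal.span (Set.range h)))) := by
  have h1 := hreg.1
  rw [List.ofFn_fin_append, isWeaklyRegular_append_iff] at h1
  refine ⟨h1.1, ?_⟩
  rw [← Ideal.Quotient.algebraMap_eq, isWeaklyRegular_map_algebraMap_iff]
  exact (LinearEquiv.isWeaklyRegular_congr (Submodule.quotEquivOfEq _ _
    (by rw [Ideal.smul_eq_mul, Ideal.mul_top, ofList_ofFn])) _).1 h1.2

/-- `K` regular and `K/J` regular give `J` regular. -/
theorem regular_sub (J K : Ideal A) (hJK : J ≤ K) (hK : K ≤ maximalIdeal A)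
    (hKreg : CInt.IsRegularIdeal K) (hKJ : CInt.IsRegularIdeal (K.map (Ideal.Quotient.mk J))) :
    CInt.IsRegularIdeal J := by
  classical
  have hJne : J ≠ ⊤ := ne_top_of_le_maximal (hJK.trans hK)
  have : Nontrivial (A ⧸ J) := Ideal.Quotient.nontrivial_iff.2 hJne
  have : IsLocalRing (A ⧸ J) := IsLocalRing.of_surjective' _ Ideal.Quotient.mk_surjective
  obtain ⟨ss, hss, hssK⟩ := hKJ
  have hl : List.ofFn ss.get = ss := List.ofFn_get ss
  have he : Ideal.span (Set.range ss.get) = K.map (Ideal.Quotient.mk J) := by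
    rw [← ofList_ofFn, hl, hssK]
  choose g₀ hg₀ using fun i => Ideal.mem_map_iff_of_surjective _ Ideal.Quotient.mk_surjective
    |>.1 (he ▸ Ideal.subset_span ⟨i, rfl⟩ : ss.get i ∈ K.map (Ideal.Quotient.mk J))
  have hrange : Ideal.span (Set.range ss.get) =
      (Ideal.span (Set.range g₀)).map (Ideal.Quotient.mk J) := by
    rw [Ideal.map_span, ← Set.range_comp]
    exact congrArg Ideal.span (congrArg Set.range (funext fun i => (hg₀ i).2.symm))
  have hgen : K ≤ J ⊔ Ideal.span (Set.range g₀) := fun x hx => by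
    have h1 : x ∈ (Ideal.span (Set.range ss.get)).comap (Ideal.Quotient.mk J) := by
      rw [he]; exact Ideal.mem_map_of_mem _ hx
    rw [hrange, Ideal.comap_map_of_surjective _ Ideal.Quotient.mk_surjective,
      ← RingHom.ker_eq_comap_bot, Ideal.mk_ker] at h1
    rwa [sup_comm]
  have hind : ∀ c : Fin ss.length → A, ∑ i, c i * g₀ i ∈ maximalIdeal A * K →
      ∀ i, c i ∈ maximalIdeal A := fun c hc i => by
    have hmin := (spanFinrank_eq ss.get (hl.symm ▸ hss)).symm
    rw [he] at hmin
    have hmem := Ideal.mem_map_of_mem (Ideal.Quotient.mk J) hc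
    rw [Ideal.map_mul, IsLocalRing.map_maximalIdeal_of_surjective _ Ideal.Quotient.mk_surjective, map_sum] at hmem
    simp only [map_mul, (hg₀ _).2] at hmem
    have hci := coeff_mem_of_minimal ss.get he hmin.le (fun l => Ideal.Quotient.mk J (c l)) hmem i
    by_contra hu
    exact (IsLocalRing.mem_maximalIdeal _).1 hci ((notMem_maximalIdeal.1 hu).map _)
  obtain ⟨r, h, hh, hspan, hrq⟩ := extend_minimal K J hJK g₀ (fun i => (hg₀ i).1) hgen hind
  have hreg := isRegular_of_minimal hKreg _ hspan hrq
  obtain ⟨hh1, hh2⟩ := regular_append_right h g₀ hreg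
  let J' := Ideal.span (Set.range h)
  have hJ'J : J' ≤ J := Ideal.span_le.2 (by rintro _ ⟨i, rfl⟩; exact hh i)
  -- in `A/J'` the ideal `J/J'` vanishes
  have : Nontrivial (A ⧸ J') := Ideal.Quotient.nontrivial_iff.2
    (ne_top_of_le_maximal ((hJ'J.trans hJK).trans hK))
  have : IsLocalRing (A ⧸ J') := IsLocalRing.of_surjective' _ Ideal.Quotient.mk_surjective
  have hbot : J.map (Ideal.Quotient.mk J') = ⊥ := by
    refine eq_bot_of_le_ofList ((List.ofFn g₀).map (Ideal.Quotient.mk J')) ?_ _ ?_ ?_
    · intro x hx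
      obtain ⟨y, hy, rfl⟩ := List.mem_map.1 hx
      obtain ⟨i, rfl⟩ := List.mem_ofFn.1 hy
      rw [← IsLocalRing.map_maximalIdeal_of_surjective _ Ideal.Quotient.mk_surjective]
      exact Ideal.mem_map_of_mem _ (hK (hg₀ i).1)
    · rw [← Ideal.map_ofList, ofList_ofFn]
      rw [Ideal.map_le_iff_le_comap, Ideal.comap_map_of_surjective _ Ideal.Quotient.mk_surjective,
        ← RingHom.ker_eq_comap_bot, Ideal.mk_ker]
      refine hJK.trans ?_
      rw [← hspan, Ideal.span_le]
      rintro _ ⟨i, rfl⟩
      induction i using Fin.addCases with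
      | left i => rw [Fin.append_left]; exact Submodule.mem_sup_right (Ideal.subset_span ⟨i, rfl⟩)
      | right i => rw [Fin.append_right]; exact Submodule.mem_sup_left (Ideal.subset_span ⟨i, rfl⟩)
    · let e : (A ⧸ J) ≃+* (A ⧸ J') ⧸ J.map (Ideal.Quotient.mk J') :=
        ((DoubleQuot.quotQuotEquivQuotSup J' J).trans (Ideal.quotEquivOfEq (sup_eq_right.2 hJ'J))).symm
      have hlist : ((List.ofFn g₀).map (Ideal.Quotient.mk J)) = ss := by
        rw [List.map_ofFn]
        exact (congrArg List.ofFn (funext fun i => (hg₀ i).2)).trans hl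
      refine (AddEquiv.isWeaklyRegular_congr (e := e.toAddEquiv)
        (as := (List.ofFn g₀).map (Ideal.Quotient.mk J)) ?_).1 (by rw [hlist]; exact hss.1)
      rw [List.forall₂_map_left_iff, List.forall₂_map_right_iff, List.forall₂_map_right_iff,
        List.forall₂_same]
      intro a _ x
      have he' : ∀ z, e (Ideal.Quotient.mk J z) = Ideal.Quotient.mk _ (Ideal.Quotient.mk J' z) := fun z =>
        (RingEquiv.symm_apply_eq _).2 rfl
      show e (_ * x) = _ * e x
      rw [map_mul, he']
  have hJJ' : J = J' := by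
    refine le_antisymm ?_ hJ'J
    have := Ideal.map_eq_bot_iff_le_ker _ |>.1 hbot
    rwa [Ideal.mk_ker] at this
  refine ⟨List.ofFn h, ⟨hh1, ?_⟩, by rw [ofList_ofFn]; exact hJJ'.symm⟩
  rw [ofList_ofFn, Ideal.smul_eq_mul, Ideal.mul_top]
  exact fun e => hJne (hJJ'.trans e.symm)

/-- In a regular local ring, for `A/J` regular: `K` regular gives `K/J` regular. -/
theorem regular_map [IsRegularLocalRing A] (J K : Ideal A) (hJK : J ≤ K) (hK : K ≤ maximalIdeal A)
    (hAJ : IsRegularLocalRing (A ⧸ J)) (hKreg : CInt.IsRegularIdeal K) :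
    CInt.IsRegularIdeal (K.map (Ideal.Quotient.mk J)) := by
  classical
  obtain ⟨rs, hrs, rfl⟩ := (S5033.result A J).1 inferInstance
  let x := rs.get
  have hl : List.ofFn x = rs := List.ofFn_get rs
  have he : Ideal.span (Set.range x) = Ideal.ofList rs := by rw [← ofList_ofFn, hl]
  have hxm : ∀ i, x i ∈ maximalIdeal A := fun i =>
    hK (hJK (he ▸ Ideal.subset_span ⟨i, rfl⟩))
  -- `x` completes to a minimal system of generators of the maximal ideal
  obtain ⟨ys, hys, hyspan⟩ :=
    (IsNoetherian.noetherian (maximalIdeal (A ⧸ Ideal.ofList rs))).exists_span_set_encard_eq_spanFinrank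
  have hfin : ys.Finite := Set.finite_of_encard_eq_coe hys
  let ν := hfin.toFinset.card
  have hν : ν = (maximalIdeal (A ⧸ Ideal.ofList rs)).spanFinrank := by
    have := hfin.encard_eq_coe_toFinset_card
    rw [hys] at this
    exact_mod_cast this.symm
  choose y hy using fun i : Fin ν => Ideal.Quotient.mk_surjective (hfin.toFinset.equivFin.symm i).1
  have hdim : ringKrullDim (A ⧸ Ideal.ofList rs) + (rs.length : WithBot ℕ∞) = ringKrullDim A :=
    ringKrullDim_add_length_eq_ringKrullDim_of_isRegular rs hrs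
  have hνA : ν + rs.length = (maximalIdeal A).spanFinrank := by
    rw [← hAJ.spanFinrank_maximalIdeal, ← ‹IsRegularLocalRing A›.spanFinrank_maximalIdeal, ← hν] at hdim
    exact_mod_cast hdim
  have hyj : ∀ j, (hfin.toFinset.equivFin.symm j).1 ∈ maximalIdeal (A ⧸ Ideal.ofList rs) := fun j => by
    rw [← hyspan]; exact Submodule.subset_span (hfin.mem_toFinset.1 (hfin.toFinset.equivFin.symm j).2)
  have hym : ∀ j, y j ∈ maximalIdeal A := fun j => by
    by_contra hu
    exact (IsLocalRing.mem_maximalIdeal _).1 (hy j ▸ hyj j) ((notMem_maximalIdeal.1 hu).map _)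
  have hgenm : Ideal.span (Set.range (Fin.append x y)) = maximalIdeal A := by
    refine le_antisymm (Ideal.span_le.2 ?_) fun a ha => ?_
    · rintro _ ⟨i, rfl⟩
      induction i using Fin.addCases with
      | left i => rw [Fin.append_left]; exact hxm i
      | right i => rw [Fin.append_right]; exact hym i
    · have h1 : Ideal.Quotient.mk (Ideal.ofList rs) a ∈
          (Ideal.span (Set.range y)).map (Ideal.Quotient.mk (Ideal.ofList rs)) := by
        have h0 : Ideal.Quotient.mk (Ideal.ofList rs) a ∈ maximalIdeal (A ⧸ Ideal.ofList rs) := by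
          rw [← IsLocalRing.map_maximalIdeal_of_surjective _ Ideal.Quotient.mk_surjective]
          exact Ideal.mem_map_of_mem _ ha
        rw [← hyspan] at h0
        refine Submodule.span_le.2 ?_ h0
        intro z hz
        let j := hfin.toFinset.equivFin ⟨z, hfin.mem_toFinset.2 hz⟩
        have : Ideal.Quotient.mk _ (y j) = z := by rw [hy]; simp [j]
        exact this ▸ Ideal.mem_map_of_mem _ (Ideal.subset_span ⟨j, rfl⟩)
      rw [← Ideal.mem_comap, Ideal.comap_map_of_surjective _ Ideal.Quotient.mk_surjective,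
        ← RingHom.ker_eq_comap_bot, Ideal.mk_ker, ← he] at h1
      refine (sup_le ?_ ?_ : _ ⊔ _ ≤ Ideal.span (Set.range (Fin.append x y))) h1
      · exact Ideal.span_mono (Set.range_subset_iff.2 fun i => ⟨Fin.natAdd _ i, Fin.append_right x y i⟩)
      · exact Ideal.span_mono (Set.range_subset_iff.2 fun i => ⟨Fin.castAdd _ i, Fin.append_left x y i⟩)
  have hind : ∀ c : Fin rs.length → A, ∑ i, c i * x i ∈ maximalIdeal A * K →
      ∀ i, c i ∈ maximalIdeal A := fun c hc i => by
    have := coeff_mem_of_minimal (Fin.append x y) hgenm (by omega) (Fin.append c 0) (by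
      simp only [Fin.sum_univ_add, Fin.append_left, Fin.append_right, Pi.zero_apply, zero_mul,
        Finset.sum_const_zero, add_zero]
      exact Ideal.mul_mono le_rfl hK hc) (Fin.castAdd ν i)
    rwa [Fin.append_left] at this
  obtain ⟨r, h, hh, hspan, hrq⟩ := extend_minimal K K le_rfl x (fun i => hJK (he ▸ Ideal.subset_span ⟨i, rfl⟩))
    le_sup_left hind
  have hswap : Ideal.span (Set.range (Fin.append x h)) = K := by
    refine le_antisymm ?_ (hspan.ge.trans ?_)
    · rw [Ideal.span_le]
      rintro _ ⟨i, rfl⟩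
      induction i using Fin.addCases with
      | left i => rw [Fin.append_left]; exact hJK (he ▸ Ideal.subset_span ⟨i, rfl⟩)
      | right i => rw [Fin.append_right]; exact hh i
    · refine Ideal.span_mono (Set.range_subset_iff.2 fun i => ?_)
      induction i using Fin.addCases with
      | left i => exact ⟨Fin.natAdd _ i, by rw [Fin.append_left, Fin.append_right]⟩
      | right i => exact ⟨Fin.castAdd _ i, by rw [Fin.append_left, Fin.append_right]⟩
  obtain ⟨-, hh2⟩ := regular_append_right x h (isRegular_of_minimal hKreg _ hswap (by omega))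
  rw [he] at hh2
  have hmap : Ideal.ofList ((List.ofFn h).map (Ideal.Quotient.mk (Ideal.ofList rs))) =
      K.map (Ideal.Quotient.mk (Ideal.ofList rs)) := by
    rw [← Ideal.map_ofList, ofList_ofFn]
    refine le_antisymm (Ideal.map_mono (Ideal.span_le.2 (Set.range_subset_iff.2 hh))) ?_
    rw [← hswap, Ideal.map_le_iff_le_comap, Ideal.span_le]
    rintro _ ⟨i, rfl⟩
    induction i using Fin.addCases with
    | left i =>
      rw [Fin.append_left, SetLike.mem_coe, Ideal.mem_comap,
        Ideal.Quotient.eq_zero_iff_mem.2 (he ▸ Ideal.subset_span ⟨i, rfl⟩)]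
      exact zero_mem _
    | right i => rw [Fin.append_right]; exact Ideal.mem_map_of_mem _ (Ideal.subset_span ⟨i, rfl⟩)
  refine ⟨_, ⟨hh2, ?_⟩, hmap⟩
  rw [hmap, Ideal.smul_eq_mul, Ideal.mul_top]
  intro e
  have h1 : (1 : A ⧸ Ideal.ofList rs) ∈ K.map (Ideal.Quotient.mk _) := e.symm ▸ Submodule.mem_top
  have h2 := Ideal.map_mono (f := Ideal.Quotient.mk (Ideal.ofList rs)) hK h1
  rw [IsLocalRing.map_maximalIdeal_of_surjective _ Ideal.Quotient.mk_surjective] at h2
  exact (IsLocalRing.mem_maximalIdeal _).1 h2 isUnit_one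

end Groth.Agent.CAlg9.RegSeq
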